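import Cfsg.Prelude.Def_AxialAlgebras
import Mathlib

/-!
# Dihedral chains of Majorana axes

The first half of the computation behind Sakuma's theorem: the products inside the chain.
-/

set_option autoImplicit false

namespace Cfsg.Agent.Lib.Sakuma55

open Cfsg.Axial

variable {V : Type*} [AddCommGroup V] [Module ℝ V]

/-- A sequence of Majorana axes in which every involution reflects the sequence. -/
structure Chain (mul : V →ₗ[ℝ] V →ₗ[ℝ] V) (B : LinearMap.BilinForm ℝ V) where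
  a : ℤ → V
  τ : ℤ → V ≃ₗ[ℝ] V
  comm : ∀ x y, mul x y = mul y x
  symm : ∀ x y, B x y = B y x
  assoc : ∀ x y z, B x (mul y z) = B (mul x y) z
  pair : ∀ i, IsMajoranaPair mul B (τ i) (a i)
  norm : ∀ i, B (a i) (a i) = 1
  refl : ∀ i k, τ i (a (i + k)) = a (i - k)

variable {mul : V →ₗ[ℝ] V →ₗ[ℝ] V} {B : LinearMap.BilinForm ℝ V} (C : Chain mul B)

theorem mem_eigen_iff' {a x : V} {c : ℝ} : x ∈ eigen mul a c ↔ mul a x = c • x := by
  rw [eigen, Module.End.mem_eigenspace_iff]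

theorem mem_eigenSum_pair' {a x : V} {c d : ℝ} :
    x ∈ eigenSum mul a {c, d} ↔ ∃ p q, mul a p = c • p ∧ mul a q = d • q ∧ p + q = x := by
  rw [eigenSum, iSup_insert, iSup_singleton, Submodule.mem_sup]
  simp [mem_eigen_iff']

namespace Chain

/-- The inner product of two axes at distance `k`. -/
def ell (i k : ℤ) : ℝ := B (C.a i) (C.a (i + k))

/-- The invariant vector of two axes at distance `k`. -/
noncomputable def S (i k : ℤ) : V := mul (C.a i) (C.a (i + k)) - (1 / 32 : ℝ) • (C.a i + C.a (i + k))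

theorem idem (i : ℤ) : mul (C.a i) (C.a i) = C.a i := (C.pair i).2.2.1.1.2.1

theorem eig_orth (i : ℤ) {c : ℝ} (hc : c ≠ 1) {x : V} (hx : mul (C.a i) x = c • x) : B (C.a i) x = 0 := by
  have h := C.assoc (C.a i) (C.a i) x
  rw [hx, C.idem, map_smul, smul_eq_mul] at h
  have h' : (c - 1) * B (C.a i) x = 0 := by linarith
  exact (mul_eq_zero.1 h').resolve_left (sub_ne_zero.2 hc)

/-- The eigenvector decomposition of a neighbour. -/
theorem decomp (i k : ℤ) : ∃ u v w, mul (C.a i) u = 0 ∧ mul (C.a i) v = (1 / 4 : ℝ) • v ∧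
    mul (C.a i) w = (1 / 32 : ℝ) • w ∧ C.a (i + k) = C.ell i k • C.a i + u + v + w ∧
    C.a (i - k) = C.ell i k • C.a i + u + v - w := by
  obtain ⟨-, -, ⟨⟨-, haa, htop, -⟩, hone⟩, hfix, hneg⟩ := C.pair i
  have hb : C.a (i + k) ∈ eigenSum mul (C.a i) majoranaSpectrum := by rw [htop]; trivial
  rw [eigenSum, majoranaSpectrum] at hb
  simp only [iSup_insert, iSup_singleton] at hb
  obtain ⟨p, hp, x, hx, hpx⟩ := Submodule.mem_sup.1 hb
  obtain ⟨u, hu, y, hy, rfl⟩ := Submodule.mem_sup.1 hx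
  obtain ⟨v, hv, w, hw, rfl⟩ := Submodule.mem_sup.1 hy
  rw [hone, Submodule.mem_span_singleton] at hp
  obtain ⟨l, rfl⟩ := hp
  have hplus : l • C.a i + u + v ∈ eigenSum mul (C.a i) {1, 0, 1 / 4} := by
    have ha1 : l • C.a i ∈ eigen mul (C.a i) 1 :=
      Submodule.smul_mem _ _ (mem_eigen_iff'.2 (by rw [one_smul, haa]))
    simp only [eigenSum, iSup_insert, iSup_singleton]
    exact add_mem (add_mem (Submodule.mem_sup_left ha1) (Submodule.mem_sup_right (Submodule.mem_sup_left hu)))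
      (Submodule.mem_sup_right (Submodule.mem_sup_right hv))
  have h1 := hfix _ hplus
  have h2 := hneg w hw
  rw [mem_eigen_iff'] at hu hv hw
  have hl : l = C.ell i k := by
    rw [ell, ← hpx, map_add, map_add, map_add, map_smul, C.norm, C.eig_orth i (by norm_num) hu,
      C.eig_orth i (by norm_num) hv, C.eig_orth i (by norm_num) hw]
    simp
  subst hl
  rw [zero_smul] at hu
  refine ⟨u, v, w, hu, hv, hw, ?_, ?_⟩
  · rw [← hpx]; module
  · rw [← C.refl i k, ← hpx]
    show (C.τ i : V →ₗ[ℝ] V) _ = _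
    rw [show C.ell i k • C.a i + (u + (v + w)) = (C.ell i k • C.a i + u + v) + w by module, map_add, h1, h2]
    module

theorem ell_neg (i k : ℤ) : C.ell i (-k) = C.ell i k := by
  obtain ⟨u, v, w, hu, hv, hw, -, hb⟩ := C.decomp i k
  rw [ell, ← sub_eq_add_neg, hb, map_sub, map_add, map_add, map_smul, C.norm,
    C.eig_orth i (c := 0) (by norm_num) (by rw [hu, zero_smul]), C.eig_orth i (by norm_num) hv,
    C.eig_orth i (by norm_num) hw]
  simp

theorem ell_back (i k : ℤ) : C.ell (i - k) k = C.ell i k := by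
  rw [← C.ell_neg i k, ell, ell, sub_add_cancel, ← sub_eq_add_neg, C.symm]

theorem ell_refl (j i k : ℤ) : C.ell (2 * j - i) k = C.ell i k := by
  have h := (C.pair j).2.1 (C.a i) (C.a (i + k))
  have e1 : C.τ j (C.a i) = C.a (2 * j - i) := by
    have := C.refl j (i - j)
    rwa [add_sub_cancel, show j - (i - j) = 2 * j - i by ring] at this
  have e2 : C.τ j (C.a (i + k)) = C.a (2 * j - i + -k) := by
    have := C.refl j (i + k - j)
    rwa [add_sub_cancel, show j - (i + k - j) = 2 * j - i + -k by ring] at this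
  rw [e1, e2] at h
  rw [← C.ell_neg]
  exact h

theorem ell_add_two (i k : ℤ) : C.ell (i + 2) k = C.ell i k := by
  have h1 := C.ell_refl 0 i k
  have h2 := C.ell_refl 1 (-i) k
  rw [show 2 * 0 - i = -i by ring] at h1
  rw [show 2 * 1 - -i = i + 2 by ring, h1] at h2
  exact h2

theorem S_neg (i k : ℤ) : C.S i (-k) = C.S i k := by
  obtain ⟨u, v, w, hu, hv, hw, ha, hb⟩ := C.decomp i k
  rw [S, S, ← sub_eq_add_neg, hb, ha]
  simp only [map_add, map_sub, map_smul, map_zero, C.idem, hu, hv, hw]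
  module

theorem S_back (i k : ℤ) : C.S (i - k) k = C.S i k := by
  rw [← C.S_neg i k, S, S, sub_add_cancel, ← sub_eq_add_neg, C.comm, add_comm (C.a i)]

theorem mul_a_eq (i k : ℤ) :
    mul (C.a i) (C.a (i + k)) = C.S i k + (1 / 32 : ℝ) • (C.a i + C.a (i + k)) := by
  rw [S]; module

/-- The product of an axis with an invariant vector. -/
theorem mul_S (i k : ℤ) : mul (C.a i) (C.S i k) = (3 / 4 * C.ell i k - 25 / 1024) • C.a i +
    (7 / 2048 : ℝ) • (C.a (i + k) + C.a (i - k)) + (7 / 32 : ℝ) • C.S i k := by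
  obtain ⟨u, v, w, hu, hv, hw, ha, hb⟩ := C.decomp i k
  rw [S, ha, hb]
  simp only [map_add, map_sub, map_smul, map_zero, C.idem, hu, hv, hw]
  module

theorem B_S (i k : ℤ) : B (C.a i) (C.S i k) = 31 / 32 * C.ell i k - 1 / 32 := by
  rw [S, map_sub, map_smul, map_add, C.assoc, C.idem, C.norm, smul_eq_mul, ← ell]
  ring

/-- The same chain, one step further. -/
def shift : Chain mul B where
  a i := C.a (i + 1)
  τ i := C.τ (i + 1)
  comm := C.comm
  symm := C.symm
  assoc := C.assoc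
  pair i := C.pair (i + 1)
  norm i := C.norm (i + 1)
  refl i k := by rw [show i + k + 1 = i + 1 + k by ring, C.refl, show i - k + 1 = i + 1 - k by ring]

theorem shift_a (i : ℤ) : C.shift.a i = C.a (i + 1) := rfl

theorem shift_ell (i k : ℤ) : C.shift.ell i k = C.ell (i + 1) k := by
  simp only [ell, shift, show i + k + 1 = i + 1 + k by ring]

theorem shift_S (i k : ℤ) : C.shift.S i k = C.S (i + 1) k := by
  simp only [S, shift, show i + k + 1 = i + 1 + k by ring]

/-- The products forced by the fusion rules at one axis. -/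
theorem fusion : C.ell 0 2 = C.ell 1 2 ∧
    mul (C.a 0) (C.S 1 2) = (32 / 3 * C.ell 0 1 - 19 / 48) • C.S 0 1 +
      (-32 / 3 * C.ell 0 1 ^ 2 + 5 / 3 * C.ell 0 1 - 1 / 24 * C.ell 1 2 - 127 / 3072) • C.a 0 +
      (1 / 6 * C.ell 0 1 - 19 / 3072) • (C.a 1 + C.a (-1)) + (7 / 96 : ℝ) • C.S 0 2 +
      (7 / 6144 : ℝ) • (C.a 2 + C.a (-2)) ∧
    mul (C.S 0 1) (C.S 0 1) =
      (49 / 768 * C.ell 0 1 - 245 / 196608) • (C.a 1 + C.a (-1)) + (49 / 196608 : ℝ) • (C.a 2 + C.a (-2)) +
      (7 / 2048 : ℝ) • C.S 1 2 - (7 / 1536 : ℝ) • C.S 0 2 + (-5 / 12 * C.ell 0 1 - 13 / 1536) • C.S 0 1 +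
      (7 / 6 * C.ell 0 1 ^ 2 - 7 / 384 * C.ell 0 1 + 7 / 1536 * C.ell 1 2 - 7 / 98304) • C.a 0 := by
  obtain ⟨u, v, w, hu, hv, hw, ha, hb⟩ := C.decomp 0 1
  rw [zero_add] at ha
  rw [zero_sub] at hb
  set L := C.ell 0 1 with hL
  set N := C.ell 1 2 with hN
  set M := C.ell 0 2 with hM
  set s := C.S 0 1 with hs
  set se := C.S 0 2 with hse
  set so := C.S 1 2 with hso
  have hs1 : C.S 1 1 = s := by rw [hs, ← C.S_back 1 1]; norm_num
  have hsm : C.S (-1) 1 = s := by rw [hs, ← C.S_back 0 1]; norm_num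
  have hL1 : C.ell 1 1 = L := by rw [hL, ← C.ell_back 1 1]; norm_num
  have hLm : C.ell (-1) 1 = L := by rw [hL, ← C.ell_back 0 1]; norm_num
  have hsom : C.S (-1) 2 = so := by rw [hso, ← C.S_back 1 2]; norm_num
  have hNm : C.ell (-1) 2 = N := by rw [hN, ← C.ell_back 1 2]; norm_num
  have hsen : C.S 0 (-2) = se := by rw [hse, C.S_neg]
  have e00 := C.idem 0
  have e11 := C.idem 1
  have emm := C.idem (-1)
  have e01 : mul (C.a 0) (C.a 1) = s + (1 / 32 : ℝ) • (C.a 0 + C.a 1) := by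
    have h := C.mul_a_eq 0 1
    rwa [zero_add] at h
  have e0m : mul (C.a 0) (C.a (-1)) = s + (1 / 32 : ℝ) • (C.a 0 + C.a (-1)) := by
    have h := C.mul_a_eq 0 (-1)
    rwa [zero_add, C.S_neg] at h
  have e02 : mul (C.a 0) (C.a 2) = se + (1 / 32 : ℝ) • (C.a 0 + C.a 2) := by
    have h := C.mul_a_eq 0 2
    rwa [zero_add] at h
  have e0n : mul (C.a 0) (C.a (-2)) = se + (1 / 32 : ℝ) • (C.a 0 + C.a (-2)) := by
    have h := C.mul_a_eq 0 (-2)
    rwa [zero_add, C.S_neg] at h
  have e1m : mul (C.a (-1)) (C.a 1) = so + (1 / 32 : ℝ) • (C.a (-1) + C.a 1) := by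
    have h := C.mul_a_eq (-1) 2
    rw [hsom, show (-1 : ℤ) + 2 = 1 by norm_num] at h
    exact h
  have es0 := C.mul_S 0 1
  rw [zero_add, zero_sub, ← hs, ← hL] at es0
  have es1 := C.mul_S 1 1
  rw [hs1, hL1, show (1 : ℤ) + 1 = 2 by norm_num, sub_self] at es1
  have esm := C.mul_S (-1) 1
  rw [hsm, hLm, show (-1 : ℤ) + 1 = 0 by norm_num, show (-1 : ℤ) - 1 = -2 by norm_num] at esm
  have ese := C.mul_S 0 2
  rw [zero_add, zero_sub, ← hse, ← hM] at ese
  have e10 := (C.comm (C.a 1) (C.a 0)).trans e01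
  have em0 := (C.comm (C.a (-1)) (C.a 0)).trans e0m
  have em1 := (C.comm (C.a 1) (C.a (-1))).trans e1m
  have esa0 := (C.comm s (C.a 0)).trans es0
  have esa1 := (C.comm s (C.a 1)).trans es1
  have esam := (C.comm s (C.a (-1))).trans esm
  -- the eigenvectors in terms of the chain
  set P : V := (1 / 2 : ℝ) • (C.a 1 + C.a (-1)) - L • C.a 0 with hP
  set Q : V := s - (31 / 32 * L - 1 / 32) • C.a 0 with hQ
  have hP' : P = u + v := by rw [hP, ha, hb]; module
  have hQ' : Q = (-1 / 32 : ℝ) • u + (7 / 32 : ℝ) • v := by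
    rw [hQ, hs, S, zero_add, ha]
    simp only [map_add, map_smul, e00, hu, hv, hw]
    module
  have hv' : v = (4 : ℝ) • Q + (1 / 8 : ℝ) • P := by rw [hQ', hP']; module
  -- scalar products
  have hBa : ∀ i, B (C.a i) s = if i = 0 ∨ i = 1 ∨ i = -1 then 31 / 32 * L - 1 / 32 else B (C.a i) s := by
    intro i
    split_ifs with h
    · rcases h with rfl | rfl | rfl
      · exact C.B_S 0 1
      · rw [← hs1, C.B_S 1 1, hL1]
      · rw [← hsm, C.B_S (-1) 1, hLm]
    · rfl
  have b0s := hBa 0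
  have b1s := hBa 1
  have bms := hBa (-1)
  norm_num at b0s b1s bms
  have g00 := C.norm 0
  have g01 : B (C.a 0) (C.a 1) = L := by rw [hL, ell, zero_add]
  have g0m : B (C.a 0) (C.a (-1)) = L := by rw [hL, ← C.ell_neg, ell, zero_add]
  have gm1 : B (C.a (-1)) (C.a 1) = N := by rw [← hNm, ell, show (-1 : ℤ) + 2 = 1 by norm_num]
  have g11 := C.norm 1
  have gmm := C.norm (-1)
  have hn : B v v = -4 * L ^ 2 + 4 * L + 1 / 16 * N - 1 / 16 := by
    have huv : B v u = 0 := by
      have h1 := C.assoc v (C.a 0) u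
      rw [hu, map_zero, C.comm v (C.a 0), hv, map_smul, LinearMap.smul_apply, smul_eq_mul] at h1
      linarith
    have h2 : B v P = B v v := by rw [hP', map_add, huv, zero_add]
    rw [← h2, C.symm v P, hv', hP, hQ]
    simp only [map_add, map_sub, map_smul, LinearMap.add_apply, LinearMap.sub_apply, LinearMap.smul_apply,
      smul_eq_mul, g00, g01, g0m, gm1, g11, gmm, C.symm (C.a 1) (C.a 0), C.symm (C.a (-1)) (C.a 0),
      C.symm (C.a 1) (C.a (-1)), b0s, b1s, bms]
    ring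
  -- the fusion rules
  have hfus := (C.pair 0).2.2.1.1.2.2.2
  have hu_mem : u ∈ eigen mul (C.a 0) 0 := by rw [mem_eigen_iff', zero_smul]; exact hu
  have hv_mem : v ∈ eigen mul (C.a 0) (1 / 4) := mem_eigen_iff'.2 hv
  have hS0 : (0 : ℝ) ∈ majoranaSpectrum := by simp [majoranaSpectrum]
  have hS4 : (1 / 4 : ℝ) ∈ majoranaSpectrum := by simp [majoranaSpectrum]
  have h00 := hfus 0 hS0 0 hS0 u hu_mem u hu_mem
  have hl00 : monsterLaw (1 / 4 : ℝ) (1 / 32) 0 0 = {0} := by simp [monsterLaw]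
  rw [hl00, eigenSum, iSup_singleton, mem_eigen_iff', zero_smul] at h00
  have h04 := hfus 0 hS0 (1 / 4) hS4 u hu_mem v hv_mem
  have hl04 : monsterLaw (1 / 4 : ℝ) (1 / 32) 0 (1 / 4) = {1 / 4} := by norm_num [monsterLaw]
  rw [hl04, eigenSum, iSup_singleton, mem_eigen_iff'] at h04
  have h44 := hfus (1 / 4) hS4 (1 / 4) hS4 v hv_mem v hv_mem
  have hl44 : monsterLaw (1 / 4 : ℝ) (1 / 32) (1 / 4) (1 / 4) = {1, 0} := by norm_num [monsterLaw]
  rw [hl44, mem_eigenSum_pair'] at h44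
  obtain ⟨p, q, hp, hq, hpq⟩ := h44
  rw [zero_smul] at hq
  obtain ⟨c, rfl⟩ : ∃ c : ℝ, c • C.a 0 = p := by
    have h := (mem_eigen_iff').2 hp
    rw [(C.pair 0).2.2.1.2, Submodule.mem_span_singleton] at h
    exact h
  set n := B v v with hndef
  have hvv : mul (C.a 0) (mul v v) = (n / 4) • C.a 0 := by
    have hc : c = n / 4 := by
      have h1 := C.assoc (C.a 0) v v
      rw [hv, ← hpq, map_add, map_smul, map_smul, LinearMap.smul_apply, g00,
        C.eig_orth 0 (c := 0) (by norm_num) (by rw [hq, zero_smul])] at h1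
      simp only [smul_eq_mul] at h1
      linarith
    rw [← hpq, map_add, hp, hq, one_smul, add_zero, hc]
  have huv' : mul v u = mul u v := C.comm v u
  have hPP : mul P P = (-L / 32 + 17 / 64) • (C.a 1 + C.a (-1)) + (1 / 2 : ℝ) • so + (-2 * L) • s +
      (L ^ 2 - L / 16) • C.a 0 := by
    rw [hP]
    simp only [map_add, map_sub, map_smul, LinearMap.add_apply, LinearMap.sub_apply, LinearMap.smul_apply,
      e00, e11, emm, e01, e0m, e1m, e10, em0, em1]
    module
  have hPQ : mul P Q = (365 / 1024 * L - 3 / 256) • (C.a 1 + C.a (-1)) +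
      (7 / 32 * L ^ 2 - 19 / 512 * L + 9 / 2048) • C.a 0 + (7 / 4096 : ℝ) • (C.a 2 + C.a (-2)) +
      (-19 / 16 * L + 1 / 4) • s := by
    rw [hP, hQ]
    simp only [map_add, map_sub, map_smul, LinearMap.add_apply, LinearMap.sub_apply, LinearMap.smul_apply,
      e00, e01, e0m, e10, em0, es0, es1, esm]
    module
  have hPP' : mul P P = mul u u + (2 : ℝ) • mul u v + mul v v := by
    rw [hP']
    simp only [map_add, LinearMap.add_apply, huv']
    module
  have hPQ' : (32 : ℝ) • mul P Q = (-1 : ℝ) • mul u u + (6 : ℝ) • mul u v + (7 : ℝ) • mul v v := by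
    rw [hP', hQ']
    simp only [map_add, map_smul, LinearMap.add_apply, huv']
    module
  have hQQ' : (1024 : ℝ) • mul Q Q = mul u u + (-14 : ℝ) • mul u v + (49 : ℝ) • mul v v := by
    rw [hQ']
    simp only [map_add, map_smul, LinearMap.add_apply, LinearMap.smul_apply, huv']
    module
  -- multiply by the axis
  have aPP : mul (C.a 0) (mul P P) = (1 / 2 : ℝ) • mul u v + (n / 4) • C.a 0 := by
    rw [hPP', map_add, map_add, map_smul, h00, h04, hvv]; module
  have aPQ : (32 : ℝ) • mul (C.a 0) (mul P Q) = (3 / 2 : ℝ) • mul u v + (7 * n / 4) • C.a 0 := by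
    rw [← map_smul, hPQ', map_add, map_add, map_smul, map_smul, map_smul, h00, h04, hvv]; module
  set X := mul (C.a 0) so with hX
  have hX' : X = (32 / 3 * L - 19 / 48) • s + (-32 / 3 * L ^ 2 + 5 / 3 * L - 1 / 24 * N - 127 / 3072) • C.a 0 +
      (1 / 6 * L - 19 / 3072) • (C.a 1 + C.a (-1)) + (7 / 96 : ℝ) • se +
      (7 / 6144 : ℝ) • (C.a 2 + C.a (-2)) := by
    rw [hPP] at aPP
    rw [hPQ] at aPQ
    simp only [map_add, map_sub, map_smul, e00, e01, e0m, e02, e0n, es0, ← hX] at aPP aPQ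
    rw [hn] at aPP aPQ
    linear_combination (norm := module) (2 : ℝ) • aPP - (2 / 3 : ℝ) • aPQ
  have huv_eq : mul u v = (29 / 3 * L + 2 / 3) • s +
      (-35 / 3 * L ^ 2 + 157 / 96 * L - 1 / 24 * N - 25 / 3072 - n / 2) • C.a 0 +
      (29 / 192 * L + 1 / 96) • (C.a 1 + C.a (-1)) + (7 / 96 : ℝ) • se + (7 / 6144 : ℝ) • (C.a 2 + C.a (-2)) := by
    rw [hPP] at aPP
    simp only [map_add, map_sub, map_smul, e00, e01, e0m, es0, ← hX] at aPP
    rw [hX'] at aPP
    linear_combination (norm := module) (-2 : ℝ) • aPP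
  have hMN : M = N := by
    have h := h04
    rw [huv_eq] at h
    simp only [map_add, map_sub, map_smul, e00, e01, e0m, e02, e0n, es0, ese, hn] at h
    have h' : (7 / 128 * (M - N)) • C.a 0 = 0 := by linear_combination (norm := module) h
    have hne : C.a 0 ≠ 0 := (C.pair 0).2.2.1.1.1
    have := (smul_eq_zero.1 h').resolve_right hne
    linarith
  refine ⟨hMN, hX', ?_⟩
  have hss : mul s s = mul Q Q + (2 * (31 / 32 * L - 1 / 32)) • mul (C.a 0) s -
      ((31 / 32 * L - 1 / 32) ^ 2) • C.a 0 := by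
    rw [hQ]
    simp only [map_sub, map_smul, LinearMap.sub_apply, LinearMap.smul_apply, e00, C.comm s (C.a 0)]
    module
  rw [hss, es0]
  have hvv_eq : mul v v = (1 / 8 : ℝ) • (mul P P + (32 : ℝ) • mul P Q) - mul u v := by
    rw [hPQ', hPP']; module
  have huu_eq : mul u u = mul P P - (2 : ℝ) • mul u v - mul v v := by rw [hPP']; module
  have hQQ : mul Q Q = (1 / 1024 : ℝ) • (mul u u + (-14 : ℝ) • mul u v + (49 : ℝ) • mul v v) := by
    rw [← hQQ']; module
  rw [hQQ, huu_eq, hvv_eq, hPP, hPQ, huv_eq, hn]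
  module

end Chain

end Cfsg.Agent.Lib.Sakuma55
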