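import Cfsg.Agent.Lib.Sakuma55.Chain

/-!
# Sakuma's theorem: a dihedral chain of Majorana axes returns after at most six steps
-/

set_option autoImplicit false

namespace Cfsg.Agent.Lib.Sakuma55

open Cfsg.Axial

variable {V : Type*} [AddCommGroup V] [Module ℝ V]
variable {mul : V →ₗ[ℝ] V →ₗ[ℝ] V} {B : LinearMap.BilinForm ℝ V} (C : Chain mul B)

/-- The candidates for `(L, M)`. -/
theorem solve {L M : ℝ} (h1 : (-(786432 / 7 * L ^ 4) + 872448 / 7 * L ^ 3 - 15360 / 7 * L ^ 2 * M - 69120 / 7 * L ^ 2 -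
      3336 / 7 * L * M - 48 / 7 * M ^ 2 + 1800 / 7 * L + 501 / 56 * M - 117 / 56) = 0)
    (h7 : (402653184 / 49 * L ^ 5 - 453771264 / 49 * L ^ 4 + 19660800 / 49 * L ^ 3 * M + 33103872 / 49
      * L ^ 3 - 1195008 / 49 * L ^ 2 * M + 70656 / 49 * L * M ^ 2 - 92160 / 7 * L ^ 2 + 124392 /
      49 * L * M + 2088 / 49 * M ^ 2 - 216 / 7 * L - 8703 / 196 * M + 351 / 196) = 0) :
    L = 1 ∨ (L = 0 ∧ M = 1) ∨ (L = 1 / 8 ∧ M = 1) ∨ (L = 13 / 256 ∧ M = 13 / 256) ∨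
      (L = 1 / 64 ∧ M = 1 / 64) ∨ (L = 1 / 32 ∧ M = 0) ∨ (L = 1 / 64 ∧ M = 1 / 8) ∨
      (L = 3 / 128 ∧ M = 3 / 128) ∨ (L = 5 / 256 ∧ M = 13 / 256) := by
  have h : (141557760 / 343 * L ^ 3 + 6635520 / 7 * L ^ 2 - 3430080 / 343 * L - 26325 / 343) * M + (36238786560 / 343 * L ^ 5 - 38220595200 / 343 * L ^ 4 + 1473085440 / 343 * L ^ 3 + 48107520
      / 343 * L ^ 2 - 2652480 / 343 * L + 26325 / 343) = 0 := by
    linear_combination (-(48 / 7)) * h7 - (70656 / 49 * L + 2088 / 49) * h1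
  have hprod : (3939748954023709900800 / 16807 : ℝ) *
      (L * (L - 1 / 64) * (L - 1 / 64) * (L - 5 / 256) * (L - 3 / 128) * (L - 1 / 32) *
        (L - 13 / 256) * (L - 1 / 8) * (L - 1)) = 0 := by
    linear_combination (141557760 / 343 * L ^ 3 + 6635520 / 7 * L ^ 2 - 3430080 / 343 * L - 26325 / 343) ^ 2 * h1 + ((-(48 / 7)) * ((36238786560 / 343 * L ^ 5 - 38220595200 / 343 * L ^ 4 + 1473085440 / 343 * L ^ 3 + 48107520
      / 343 * L ^ 2 - 2652480 / 343 * L + 26325 / 343) - (141557760 / 343 * L ^ 3 + 6635520 / 7 * L ^ 2 - 3430080 / 343 * L - 26325 / 343) * M) - (-(15360 / 7 * L ^ 2) - 3336 / 7 * L + 501 / 56) * (141557760 / 343 * L ^ 3 + 6635520 / 7 * L ^ 2 - 3430080 / 343 * L - 26325 / 343)) * h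
  rcases mul_eq_zero.1 hprod with hK | hprod
  · norm_num at hK
  simp only [mul_eq_zero, sub_eq_zero] at hprod
  rcases hprod with (((((((rfl | rfl) | rfl) | rfl) | rfl) | rfl) | rfl) | rfl) | rfl
  case _ => exact Or.inr (Or.inl ⟨rfl, by linarith⟩)
  case _ =>
    have h' : (M - 1 / 64) * (M - 1 / 8) = 0 := by linear_combination (-7 / 48 : ℝ) * h1
    rcases mul_eq_zero.1 h' with e | e
    · exact Or.inr (Or.inr (Or.inr (Or.inr (Or.inl ⟨rfl, sub_eq_zero.1 e⟩))))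
    · exact Or.inr (Or.inr (Or.inr (Or.inr (Or.inr (Or.inr (Or.inl ⟨rfl, sub_eq_zero.1 e⟩))))))
  case _ =>
    have h' : (M - 1 / 64) * (M - 1 / 8) = 0 := by linear_combination (-7 / 48 : ℝ) * h1
    rcases mul_eq_zero.1 h' with e | e
    · exact Or.inr (Or.inr (Or.inr (Or.inr (Or.inl ⟨rfl, sub_eq_zero.1 e⟩))))
    · exact Or.inr (Or.inr (Or.inr (Or.inr (Or.inr (Or.inr (Or.inl ⟨rfl, sub_eq_zero.1 e⟩))))))
  case _ => exact Or.inr (Or.inr (Or.inr (Or.inr (Or.inr (Or.inr (Or.inr (Or.inr ⟨rfl, by linarith⟩)))))))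
  case _ => exact Or.inr (Or.inr (Or.inr (Or.inr (Or.inr (Or.inr (Or.inr (Or.inl ⟨rfl, by linarith⟩)))))))
  case _ => exact Or.inr (Or.inr (Or.inr (Or.inr (Or.inr (Or.inl ⟨rfl, by linarith⟩)))))
  case _ => exact Or.inr (Or.inr (Or.inr (Or.inl ⟨rfl, by linarith⟩)))
  case _ => exact Or.inr (Or.inr (Or.inl ⟨rfl, by linarith⟩))
  case _ => exact Or.inl rfl

namespace Chain

theorem ell_const {k : ℤ} (h : C.ell 1 k = C.ell 0 k) (i : ℤ) : C.ell i k = C.ell 0 k := by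
  have key : ∀ m : ℤ, C.ell (2 * m) k = C.ell 0 k ∧ C.ell (2 * m + 1) k = C.ell 0 k := by
    intro m
    induction m using Int.induction_on with
    | zero => exact ⟨by simp, by simpa using h⟩
    | succ n ih =>
      rw [show 2 * ((n : ℤ) + 1) = 2 * n + 2 by ring, show 2 * (n : ℤ) + 2 + 1 = 2 * n + 1 + 2 by ring,
        C.ell_add_two, C.ell_add_two]
      exact ih
    | pred n ih =>
      constructor
      · rw [← C.ell_add_two, show 2 * (-(n : ℤ) - 1) + 2 = 2 * -(n : ℤ) by ring]; exact ih.1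
      · rw [← C.ell_add_two, show 2 * (-(n : ℤ) - 1) + 1 + 2 = 2 * -(n : ℤ) + 1 by ring]; exact ih.2
  obtain ⟨m, rfl | rfl⟩ := Int.even_or_odd' i
  · exact (key m).1
  · exact (key m).2

theorem ell_one (i : ℤ) : C.ell i 1 = C.ell 0 1 :=
  C.ell_const (by rw [← C.ell_back 1 1]; norm_num) i

theorem ell_two (i : ℤ) : C.ell i 2 = C.ell 0 2 := C.ell_const C.fusion.1.symm i

theorem ell_three (i : ℤ) : C.ell i 3 = C.ell 0 3 := by
  refine C.ell_const ?_ i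
  rw [← C.ell_back 1 3, show (1 : ℤ) - 3 = -2 by norm_num, ← C.ell_add_two (-2)]
  norm_num

theorem ell_five (i : ℤ) : C.ell i 5 = C.ell 0 5 := by
  refine C.ell_const ?_ i
  rw [← C.ell_back 1 5, show (1 : ℤ) - 5 = -4 by norm_num, ← C.ell_add_two (-4),
    ← C.ell_add_two (-4 + 2)]
  norm_num

theorem S_one : C.S 1 1 = C.S 0 1 ∧ C.S 2 1 = C.S 0 1 ∧ C.S 3 1 = C.S 0 1 ∧ C.S 4 1 = C.S 0 1 := by
  have h1 : C.S 1 1 = C.S 0 1 := by rw [← C.S_back 1 1]; norm_num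
  have h2 : C.S 2 1 = C.S 1 1 := by rw [← C.S_back 2 1]; norm_num
  have h3 : C.S 3 1 = C.S 2 1 := by rw [← C.S_back 3 1]; norm_num
  have h4 : C.S 4 1 = C.S 3 1 := by rw [← C.S_back 4 1]; norm_num
  exact ⟨h1, h2.trans h1, h3.trans (h2.trans h1), h4.trans (h3.trans (h2.trans h1))⟩

theorem S_two : C.S 2 2 = C.S 0 2 ∧ C.S 4 2 = C.S 0 2 ∧ C.S 3 2 = C.S 1 2 ∧ C.S (-1) 2 = C.S 1 2 := by
  have h2 : C.S 2 2 = C.S 0 2 := by rw [← C.S_back 2 2]; norm_num
  have h4 : C.S 4 2 = C.S 2 2 := by rw [← C.S_back 4 2]; norm_num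
  have h3 : C.S 3 2 = C.S 1 2 := by rw [← C.S_back 3 2]; norm_num
  have hm : C.S (-1) 2 = C.S 1 2 := by rw [← C.S_back 1 2]; norm_num
  exact ⟨h2, h4.trans h2, h3, hm⟩

/-- The pairing of an axis with the invariant vector of its two neighbours. -/
theorem B_S_mid (i : ℤ) : B (C.a i) (C.S (i - 1) 2) =
    (31 / 32 * C.ell 0 1 - 1 / 32) + (C.ell 0 2 - C.ell 0 1) / 32 := by
  have g1 : B (C.a i) (C.a (i + 1)) = C.ell 0 1 := C.ell_one i
  have g2 : B (C.a i) (C.a (i - 1)) = C.ell 0 1 := by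
    rw [sub_eq_add_neg]; exact (C.ell_neg i 1).trans (C.ell_one i)
  have g3 : B (C.a (i - 1)) (C.a (i + 1)) = C.ell 0 2 := by
    rw [show i + 1 = i - 1 + 2 by ring]; exact C.ell_two (i - 1)
  have e : mul (C.a i) (C.a (i - 1)) = C.S i 1 + (1 / 32 : ℝ) • (C.a i + C.a (i - 1)) := by
    have h := C.mul_a_eq i (-1)
    rwa [C.S_neg, ← sub_eq_add_neg] at h
  have hS : B (C.S i 1) (C.a (i + 1)) = 31 / 32 * C.ell 0 1 - 1 / 32 := by
    rw [← C.ell_one (i + 1), ← C.B_S, C.symm, ← C.S_back (i + 1) 1, add_sub_cancel_right]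
  rw [S, show i - 1 + 2 = i + 1 by ring, map_sub, map_smul, map_add, C.assoc, e]
  simp only [map_add, map_smul, LinearMap.add_apply, LinearMap.smul_apply, smul_eq_mul, hS, g1, g2, g3]
  ring

/-- The linear relation: the sixth axis in terms of five axes and two invariant vectors. -/
theorem relation : C.a 3 = C.a (-2) - (256 * C.ell 0 1 - 6) • (C.a 2 - C.a (-1)) -
    (32768 / 7 * C.ell 0 1 ^ 2 - 2304 / 7 * C.ell 0 1 + 128 / 7 * C.ell 0 2 + 33 / 7) • (C.a 1 - C.a 0) -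
    (32 : ℝ) • (C.S 0 2 - C.S 1 2) := by
  obtain ⟨hMN, -, h0⟩ := C.fusion
  obtain ⟨-, -, h1⟩ := C.shift.fusion
  simp only [C.shift_S, C.shift_ell, C.shift_a] at h1
  norm_num only at h1
  rw [C.S_one.1, C.S_two.1, C.ell_one 1, C.ell_two 2, h0, ← hMN] at h1
  linear_combination (norm := module) (-(196608 / 49) : ℝ) • h1

theorem gram_four : C.ell 0 4 = (8388608 / 7 * C.ell 0 1 ^ 4 - 9601024 / 7 * C.ell 0 1 ^ 3 + 65536 * C.ell 0 1 ^ 2 * C.ell 0 2 + 110592 * C.ell 0 1 ^ 2 - 640 / 7 * C.ell 0 1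
      * C.ell 0 2 - 128 / 7 * C.ell 0 2 ^ 2 - 19840 / 7 * C.ell 0 1 - 3 * C.ell 0 2 + 156 / 7) := by
  have h := congrArg (fun x => B (C.a 2) x) C.relation
  have g23 : B (C.a 2) (C.a 3) = C.ell 0 1 := C.ell_one 2
  have g22 := C.norm 2
  have g21 : B (C.a 2) (C.a 1) = C.ell 0 1 := (C.symm _ _).trans (C.ell_one 1)
  have g20 : B (C.a 2) (C.a 0) = C.ell 0 2 := (C.symm _ _).trans (C.ell_two 0)
  have g2m : B (C.a 2) (C.a (-1)) = C.ell 0 3 := (C.symm _ _).trans (C.ell_three (-1))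
  have g2n : B (C.a 2) (C.a (-2)) = C.ell 0 4 := by
    rw [C.symm]; exact ((C.ell_add_two (-2) 4).symm.trans (by norm_num) : C.ell (-2) 4 = C.ell 0 4)
  have s2e : B (C.a 2) (C.S 0 2) = 31 / 32 * C.ell 0 2 - 1 / 32 := by
    rw [← C.S_two.1, C.B_S, C.ell_two]
  have s2o : B (C.a 2) (C.S 1 2) = (31 / 32 * C.ell 0 1 - 1 / 32) + (C.ell 0 2 - C.ell 0 1) / 32 := by
    have := C.B_S_mid 2
    norm_num at this ⊢
    exact this
  have h0 := congrArg (fun x => B (C.a 0) x) C.relation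
  have g03 : B (C.a 0) (C.a 3) = C.ell 0 3 := by rw [ell, zero_add]
  have g02 : B (C.a 0) (C.a 2) = C.ell 0 2 := by rw [ell, zero_add]
  have g01 : B (C.a 0) (C.a 1) = C.ell 0 1 := by rw [ell, zero_add]
  have g0m : B (C.a 0) (C.a (-1)) = C.ell 0 1 := by rw [← C.ell_neg, ell, zero_add]
  have g0n : B (C.a 0) (C.a (-2)) = C.ell 0 2 := by rw [← C.ell_neg, ell, zero_add]
  have g00 := C.norm 0
  have s0e := C.B_S 0 2
  have s0o : B (C.a 0) (C.S 1 2) = (31 / 32 * C.ell 0 1 - 1 / 32) + (C.ell 0 2 - C.ell 0 1) / 32 := by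
    have := C.B_S_mid 0
    rw [zero_sub, C.S_two.2.2.2] at this
    exact this
  simp only [map_add, map_sub, map_smul, smul_eq_mul, g23, g22, g21, g20, g2m, g2n, s2e, s2o] at h
  simp only [map_add, map_sub, map_smul, smul_eq_mul, g03, g02, g01, g0m, g0n, g00, s0e, s0o] at h0
  linear_combination -h - (256 * C.ell 0 1 - 6) * h0

theorem gram_three : C.ell 0 3 = (-(32768 / 7 * C.ell 0 1 ^ 3) + 36864 / 7 * C.ell 0 1 ^ 2 - 1920 / 7 * C.ell 0 1 * C.ell 0 2 - 2169 / 7 * C.ell 0 1 - 33 / 7 * C.ell 0 2 + 33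
      / 7) := by
  have h0 := congrArg (fun x => B (C.a 0) x) C.relation
  have g03 : B (C.a 0) (C.a 3) = C.ell 0 3 := by rw [ell, zero_add]
  have g02 : B (C.a 0) (C.a 2) = C.ell 0 2 := by rw [ell, zero_add]
  have g01 : B (C.a 0) (C.a 1) = C.ell 0 1 := by rw [ell, zero_add]
  have g0m : B (C.a 0) (C.a (-1)) = C.ell 0 1 := by rw [← C.ell_neg, ell, zero_add]
  have g0n : B (C.a 0) (C.a (-2)) = C.ell 0 2 := by rw [← C.ell_neg, ell, zero_add]
  have g00 := C.norm 0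
  have s0e := C.B_S 0 2
  have s0o : B (C.a 0) (C.S 1 2) = (31 / 32 * C.ell 0 1 - 1 / 32) + (C.ell 0 2 - C.ell 0 1) / 32 := by
    have := C.B_S_mid 0
    rw [zero_sub, C.S_two.2.2.2] at this
    exact this
  simp only [map_add, map_sub, map_smul, smul_eq_mul, g03, g02, g01, g0m, g0n, g00, s0e, s0o] at h0
  linear_combination h0

/-- A dihedral chain returns after at most six steps. -/
theorem returns : ∃ n : ℕ, 1 ≤ n ∧ n ≤ 6 ∧ B (C.a 0) (C.a n) = 1 := by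
  set L := C.ell 0 1 with hL
  set M := C.ell 0 2 with hM
  have hT : C.ell 0 3 = (-(32768 / 7 * L ^ 3) + 36864 / 7 * L ^ 2 - 1920 / 7 * L * M - 2169 / 7 * L - 33 / 7 * M + 33
      / 7) := C.gram_three
  have hU : C.ell 0 4 = (8388608 / 7 * L ^ 4 - 9601024 / 7 * L ^ 3 + 65536 * L ^ 2 * M + 110592 * L ^ 2 - 640 / 7 * L
      * M - 128 / 7 * M ^ 2 - 19840 / 7 * L - 3 * M + 156 / 7) := C.gram_four
  have hW : C.ell 1 4 = (8388608 / 7 * L ^ 4 - 9601024 / 7 * L ^ 3 + 65536 * L ^ 2 * M + 110592 * L ^ 2 - 640 / 7 * L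
      * M - 128 / 7 * M ^ 2 - 19840 / 7 * L - 3 * M + 156 / 7) := by
    have h := C.shift.gram_four
    simp only [C.shift_ell] at h
    rw [zero_add, C.ell_one 1, C.ell_two 1, ← hL, ← hM] at h
    exact h
  obtain ⟨hMN, hX, -⟩ := C.fusion
  rw [← hL, ← hMN, ← hM] at hX
  set se := C.S 0 2 with hse
  set so := C.S 1 2 with hso
  -- scalar products
  have g0 : B (C.a 0) (C.a 3) = C.ell 0 3 := by rw [ell, zero_add]
  have g23 : B (C.a 2) (C.a 3) = L := C.ell_one 2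
  have g22 := C.norm 2
  have g21 : B (C.a 2) (C.a 1) = L := (C.symm _ _).trans (C.ell_one 1)
  have g20 : B (C.a 2) (C.a 0) = M := (C.symm _ _).trans (C.ell_two 0)
  have g2m : B (C.a 2) (C.a (-1)) = C.ell 0 3 := (C.symm _ _).trans (C.ell_three (-1))
  have g2n : B (C.a 2) (C.a (-2)) = C.ell 0 4 := by
    rw [C.symm]; exact ((C.ell_add_two (-2) 4).symm.trans (by norm_num) : C.ell (-2) 4 = C.ell 0 4)
  have g33 := C.norm 3
  have g32 : B (C.a 3) (C.a 2) = L := (C.symm _ _).trans g23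
  have g31 : B (C.a 3) (C.a 1) = M := (C.symm _ _).trans (C.ell_two 1)
  have g30 : B (C.a 3) (C.a 0) = C.ell 0 3 := (C.symm _ _).trans g0
  have g3m : B (C.a 3) (C.a (-1)) = C.ell 1 4 := by
    rw [C.symm]; exact ((C.ell_add_two (-1) 4).symm.trans (by norm_num) : C.ell (-1) 4 = C.ell 1 4)
  have g3n : B (C.a 3) (C.a (-2)) = C.ell 0 5 := (C.symm _ _).trans (C.ell_five (-2))
  have g43 : B (C.a 4) (C.a 3) = L := (C.symm _ _).trans (C.ell_one 3)
  have g42 : B (C.a 4) (C.a 2) = M := (C.symm _ _).trans (C.ell_two 2)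
  have g41 : B (C.a 4) (C.a 1) = C.ell 0 3 := (C.symm _ _).trans (C.ell_three 1)
  have g40 : B (C.a 4) (C.a 0) = C.ell 0 4 := by rw [C.symm, ell, zero_add]
  have g4m : B (C.a 4) (C.a (-1)) = C.ell 0 5 := (C.symm _ _).trans (C.ell_five (-1))
  have g4n : B (C.a 4) (C.a (-2)) = C.ell 0 6 := by
    rw [C.symm]; exact ((C.ell_add_two (-2) 6).symm.trans (by norm_num) : C.ell (-2) 6 = C.ell 0 6)
  have s2 : B (C.a 2) (C.S 0 1) = 31 / 32 * L - 1 / 32 := by rw [← C.S_one.2.1, C.B_S, C.ell_one]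
  have s3 : B (C.a 3) (C.S 0 1) = 31 / 32 * L - 1 / 32 := by rw [← C.S_one.2.2.1, C.B_S, C.ell_one]
  have s2e : B (C.a 2) se = 31 / 32 * M - 1 / 32 := by rw [hse, ← C.S_two.1, C.B_S, C.ell_two]
  have s4e : B (C.a 4) se = 31 / 32 * M - 1 / 32 := by rw [hse, ← C.S_two.2.1, C.B_S, C.ell_two]
  have s3o : B (C.a 3) so = 31 / 32 * M - 1 / 32 := by rw [hso, ← C.S_two.2.2.1, C.B_S, C.ell_two]
  have s2o : B (C.a 2) so = (31 / 32 * L - 1 / 32) + (M - L) / 32 := by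
    have := C.B_S_mid 2
    norm_num at this ⊢
    exact this
  have s3e : B (C.a 3) se = (31 / 32 * L - 1 / 32) + (M - L) / 32 := by
    have := C.B_S_mid 3
    rw [show (3 : ℤ) - 1 = 2 by norm_num, C.S_two.1] at this
    exact this
  have s4o : B (C.a 4) so = (31 / 32 * L - 1 / 32) + (M - L) / 32 := by
    have := C.B_S_mid 4
    rw [show (4 : ℤ) - 1 = 3 by norm_num, C.S_two.2.2.1] at this
    exact this
  have hR := C.relation
  rw [← hL, ← hM, ← hse, ← hso] at hR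
  have hX5 : C.ell 0 5 = (-(13958643712 / 49 * L ^ 5) + 16273899520 / 49 * L ^ 4 - 754974720 / 49 * L ^ 3 * M -
      1633419264 / 49 * L ^ 3 + 12582912 / 49 * L ^ 2 * M + 475136 / 49 * L * M ^ 2 + 8683520 / 7
      * L ^ 2 + 259584 / 49 * L * M - 256 / 49 * M ^ 2 - 137721 / 7 * L - 5256 / 49 * M + 5512 /
      49) := by
    have h := congrArg (fun x => B (C.a 3) x) hR
    simp only [map_add, map_sub, map_smul, smul_eq_mul, g33, g32, g31, g30, g3m, g3n, s3e, s3o, hT, hW] at h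
    linear_combination -h
  have hX6 : C.ell 0 6 = (3298534883328 / 49 * L ^ 6 - 3917010173952 / 49 * L ^ 5 + 177167400960 / 49 * L ^ 4 * M +
      469317451776 / 49 * L ^ 4 - 5511315456 / 49 * L ^ 3 * M - 25165824 / 7 * L ^ 2 * M ^ 2 -
      22767894528 / 49 * L ^ 3 - 97910784 / 49 * L ^ 2 * M + 2457600 / 49 * L * M ^ 2 + 16384 / 49
      * M ^ 3 + 542429184 / 49 * L ^ 2 + 5162880 / 49 * L * M + 1152 / 49 * M ^ 2 - 904320 / 7 * L
      - 46500 / 49 * M + 29013 / 49) := by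
    have h := congrArg (fun x => B (C.a 4) x) hR
    simp only [map_add, map_sub, map_smul, smul_eq_mul, g43, g42, g41, g40, g4m, g4n, s4e, s4o,
      hT, hU, hX5] at h
    linear_combination -h
  -- the product of the axis with the sixth one
  have e0n : mul (C.a 0) (C.a (-2)) = se + (1 / 32 : ℝ) • (C.a 0 + C.a (-2)) := by
    have h := C.mul_a_eq 0 (-2)
    rwa [zero_add, C.S_neg] at h
  have e0m : mul (C.a 0) (C.a (-1)) = C.S 0 1 + (1 / 32 : ℝ) • (C.a 0 + C.a (-1)) := by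
    have h := C.mul_a_eq 0 (-1)
    rwa [zero_add, C.S_neg] at h
  have e01 : mul (C.a 0) (C.a 1) = C.S 0 1 + (1 / 32 : ℝ) • (C.a 0 + C.a 1) := by
    have h := C.mul_a_eq 0 1
    rwa [zero_add] at h
  have e02 : mul (C.a 0) (C.a 2) = se + (1 / 32 : ℝ) • (C.a 0 + C.a 2) := by
    have h := C.mul_a_eq 0 2
    rwa [zero_add] at h
  have ese := C.mul_S 0 2
  rw [zero_add, zero_sub, ← hse, ← hM] at ese
  have hprod : mul (C.a 0) (C.a 3) = mul (C.a 0) (C.a (-2)) - (256 * L - 6) •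
      (mul (C.a 0) (C.a 2) - mul (C.a 0) (C.a (-1))) -
      (32768 / 7 * L ^ 2 - 2304 / 7 * L + 128 / 7 * M + 33 / 7) • (mul (C.a 0) (C.a 1) - C.a 0) -
      (32 : ℝ) • (mul (C.a 0) se - mul (C.a 0) so) := by
    rw [hR]; simp only [map_sub, map_smul, C.idem]
  rw [e0n, e0m, e01, e02, ese, hX] at hprod
  have k2 : B (C.a 2) (mul (C.a 0) (C.a 3)) = B se (C.a 3) + 1 / 32 * (C.ell 0 3 + L) := by
    rw [C.assoc, C.comm (C.a 2) (C.a 0), e02]
    simp only [map_add, map_smul, LinearMap.add_apply, LinearMap.smul_apply, smul_eq_mul, g0, g23]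
  have k3 : B (C.a 3) (mul (C.a 0) (C.a 3)) = C.ell 0 3 := by
    rw [C.comm (C.a 0), C.assoc, C.idem, g30]
  rw [hprod] at k2 k3
  simp only [map_add, map_sub, map_smul, smul_eq_mul, g22, g21, g20, g2m, g2n, s2, s2e,
    C.symm se (C.a 3), s3e, hT, hU] at k2
  simp only [map_add, map_sub, map_smul, smul_eq_mul, g32, g31, g30, g3m, g3n, s3, s3e,
    hT, hW, hX5] at k3
  have hsol := solve (L := L) (M := M) (by linear_combination k2) (by linear_combination k3)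
  have gl : ∀ n : ℕ, C.ell 0 n = 1 → B (C.a 0) (C.a n) = 1 := fun n h => by rwa [ell, zero_add] at h
  rcases hsol with h | ⟨h, h'⟩ | ⟨h, h'⟩ | ⟨h, h'⟩ | ⟨h, h'⟩ | ⟨h, h'⟩ | ⟨h, h'⟩ | ⟨h, h'⟩ | ⟨h, h'⟩
  · exact ⟨1, le_rfl, by norm_num, gl 1 h⟩
  · exact ⟨2, by norm_num, by norm_num, gl 2 h'⟩
  · exact ⟨2, by norm_num, by norm_num, gl 2 h'⟩
  · exact ⟨3, by norm_num, by norm_num, gl 3 (by push_cast; rw [hT, h, h']; norm_num)⟩
  · exact ⟨3, by norm_num, by norm_num, gl 3 (by push_cast; rw [hT, h, h']; norm_num)⟩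
  · exact ⟨4, by norm_num, by norm_num, gl 4 (by push_cast; rw [hU, h, h']; norm_num)⟩
  · exact ⟨4, by norm_num, by norm_num, gl 4 (by push_cast; rw [hU, h, h']; norm_num)⟩
  · exact ⟨5, by norm_num, by norm_num, gl 5 (by push_cast; rw [hX5, h, h']; norm_num)⟩
  · exact ⟨6, by norm_num, le_rfl, gl 6 (by push_cast; rw [hX6, h, h']; norm_num)⟩

end Chain

end Cfsg.Agent.Lib.Sakuma55
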